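import Cfsg.Agent.S0344
import Cfsg.Agent.FrobSystem.Classify
import Cfsg.Agent.Zass.HalfPSL
import Cfsg.Agent.SzUnique.Main

/-!
# Simple Zassenhaus groups up to isomorphism
-/

set_option autoImplicit false
set_option linter.unusedSectionVars false
set_option linter.style.haveILetI false

namespace CfsgLib.SameFix

open MulAction

/-- A simple Zassenhaus group is a linear fractional group or a Suzuki group. -/
theorem psl2_or_suzuki_of_zass {G Ω : Type*} [Group G] [Finite G] [MulAction G Ω] [Finite Ω]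
    [IsSimpleGroup G] (hZ : Cfsg.IsZassenhausGroup G Ω) :
    (∃ (F : Type) (_ : Field F) (_ : Fintype F),
      Nonempty (G ≃* Matrix.ProjectiveSpecialLinearGroup (Fin 2) F)) ∨ Cfsg.Lie.IsoSuzuki G := by
  classical
  haveI := Fintype.ofFinite Ω
  haveI := Fintype.ofFinite G
  obtain ⟨g, -, a, b, hab, -, -⟩ := hZ.2.2.2.1
  rcases Nat.even_or_odd (Nat.card ↥(stabilizer G a ⊓ stabilizer G b)) with he | ho
  · obtain ⟨F, i1, i2, -, hF⟩ := Cfsg.Agent.S0344.result hZ hab he
    exact Or.inl ⟨F, i1, i2, hF⟩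
  rcases Nat.even_or_odd (Fintype.card Ω) with hn | hn
  · have h3 := CfsgLib.Char.zassenhaus_three_le hZ
    obtain ⟨k, hk⟩ := CfsgLib.Zass.card_pair_dvd_sub_two hZ hab
    obtain ⟨U, hUa, hUcard, hUfix, hUn, hUreg⟩ := CfsgLib.Zass.exists_kernel_data hZ hab
    have he3 := CfsgLib.Char.zass_three_le_pair hZ hab ho
    set e := Nat.card ↥(stabilizer G a ⊓ stabilizer G b) with hedef
    rcases (show k = 0 ∨ k = 1 ∨ k = 2 ∨ 3 ≤ k by omega) with rfl | rfl | rfl | hk3
    · exfalso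
      obtain ⟨j, hj⟩ := hn
      omega
    · exfalso
      obtain ⟨j, hj⟩ := hn
      obtain ⟨l, hl⟩ := ho
      omega
    · obtain ⟨hc, -⟩ := CfsgLib.Zass.kernel_elementary hZ hab (by omega) U hUa hUn hUreg
      obtain ⟨F, i1, i2, -, -, -, hF⟩ :=
        CfsgLib.Zass.half_psl hZ hab U hUa hUcard hUfix hc (by omega)
      exact Or.inl ⟨F, i1, i2, hF⟩
    · exfalso
      have h3' : e * 3 ≤ e * k := Nat.mul_le_mul_left _ hk3
      obtain ⟨h2, -, -⟩ := CfsgLib.Char.zass_feit_simple hZ hab ho U hUa hUcard hUfix (by omega)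
      obtain ⟨j, hj⟩ := h2.exists_card_eq
      rw [hj] at hUcard
      rcases Nat.eq_zero_or_pos j with rfl | hj0
      · omega
      · have : Even (2 ^ j) := Nat.even_pow.2 ⟨even_two, by omega⟩
        obtain ⟨l, hl⟩ := this
        obtain ⟨m, hm⟩ := hn
        omega
  · rw [← Nat.card_eq_fintype_card] at hn
    rcases CfsgLib.FrobSystem.sl2_or_two_kernel hZ hn hab ho with
      ⟨K, i1, i2, ⟨n, -, hK⟩, ⟨φ⟩⟩ | ⟨U, h1, h2, h3, h4, h5⟩
    · haveI : CharP K 2 := by
        haveI : Fact (Nat.Prime 2) := ⟨Nat.prime_two⟩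
        exact charP_of_card_eq_prime_pow hK
      exact Or.inl ⟨K, i1, i2, ⟨φ.trans CfsgLib.SL2Char2.slEquivPSL⟩⟩
    · exact Or.inr (CfsgLib.SzUnique.isoSuzuki_of_zass hZ a U h1 h2 h3 h4 h5)

end CfsgLib.SameFix
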