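import Cfsg.Agent.SameFix.Pair
import Mathlib.Combinatorics.Enumerative.DoubleCounting

/-!
# At least two fixed points: there are exactly two, and the stabiliser of three points is trivial
-/

set_option autoImplicit false
set_option linter.unusedSectionVars false
set_option linter.style.haveILetI false

namespace CfsgLib.SameFix

open MulAction
open scoped Pointwise

variable {G Ω : Type*} [Group G] [MulAction G Ω] [FaithfulSMul G Ω] [Finite G] [Finite Ω]
variable {t : G} {i : ℕ} (h : Hyp G Ω t i)
include h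

theorem Hyp.commute_of_fix {a b : Ω} (hab : a ≠ b) (hta : t • a = a) (htb : t • b = b) {g : G}
    (hga : g • a = a) (hgb : g • b = b) : Commute g t :=
  h.pair_comm hab hga hgb hta htb

theorem Hyp.swap_commute {a b : Ω} (hab : a ≠ b) (hta : t • a = a) (htb : t • b = b) {u : G}
    (hua : u • a = b) (hub : u • b = a) : Commute u t := by
  have e := h.inverts hab hua hub hta htb
  rw [inv_eq_of_mul_eq_one_right h.tt] at e
  exact mul_inv_eq_iff_eq_mul.1 e

theorem Hyp.smul_fix {g : G} (hg : Commute g t) {x : Ω} (hx : t • x = x) : t • g • x = g • x := by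
  rw [smul_smul, ← hg.eq, mul_smul, hx]

/-- A non-identity element fixing pointwise the fixed points of `t` fixes no other point. -/
theorem Hyp.fix_exact {g : G} (hg : Commute g t) (hg1 : g ≠ 1) (hgΦ : ∀ x : Ω, t • x = x → g • x = x)
    {x : Ω} (hx : g • x = x) : t • x = x := by
  classical
  haveI := Fintype.ofFinite Ω
  have hsub : (Finset.univ.filter fun y : Ω => t • y = y) ⊆ Finset.univ.filter fun y : Ω => g • y = y := by
    intro y hy
    simp only [Finset.mem_filter, Finset.mem_univ, true_and] at hy ⊢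
    exact hgΦ y hy
  have heq := Finset.eq_of_subset_of_card_le hsub (le_of_eq (by
    rw [← Fintype.card_subtype, ← Fintype.card_subtype, ← Nat.card_eq_fintype_card, ← Nat.card_eq_fintype_card]
    exact (h.cent g hg hg1).trans h.fix_t.symm))
  have hmem : x ∈ Finset.univ.filter fun y : Ω => g • y = y := by simp [hx]
  rw [← heq] at hmem
  simpa using hmem

/-- An element of the centraliser moving a fixed point of `t` is an involution. -/
theorem Hyp.sq_of_moves {g : G} (hg : Commute g t) {x : Ω} (hx : t • x = x) (hgx : g • x ≠ x) :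
    g * g = 1 := by
  classical
  haveI := Fintype.ofFinite Ω
  have hg1 : g ≠ 1 := fun e => hgx (by rw [e, one_smul])
  obtain ⟨y, hy, hty⟩ : ∃ y : Ω, g • y = y ∧ t • y ≠ y := by
    by_contra hc
    push Not at hc
    have hsub : (Finset.univ.filter fun y : Ω => g • y = y) ⊆ Finset.univ.filter fun y : Ω => t • y = y := by
      intro y hy
      simp only [Finset.mem_filter, Finset.mem_univ, true_and] at hy ⊢
      exact hc y hy
    have heq := Finset.eq_of_subset_of_card_le hsub (le_of_eq (by
      rw [← Fintype.card_subtype, ← Fintype.card_subtype, ← Nat.card_eq_fintype_card, ← Nat.card_eq_fintype_card]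
      exact h.fix_t.trans (h.cent g hg hg1).symm))
    have hmem : x ∈ Finset.univ.filter fun y : Ω => t • y = y := by simp [hx]
    rw [← heq] at hmem
    exact hgx (by simpa using hmem)
  have e := h.inverts (Ne.symm hty) rfl (by rw [smul_smul, h.tt, one_smul]) hy
    (by rw [smul_smul, hg.eq, mul_smul, hy])
  rw [← hg.eq, mul_inv_cancel_right] at e
  exact eq_inv_iff_mul_eq_one.1 e

/-- There are at most two fixed points. -/
theorem Hyp.le_two : i ≤ 2 := by
  classical
  by_contra hi
  haveI := Fintype.ofFinite Ω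
  set C := Subgroup.centralizer ({t} : Set G) with hCdef
  have hCm : ∀ g : G, g ∈ C ↔ Commute g t := fun g => Subgroup.mem_centralizer_singleton_iff
  obtain ⟨a, b, c, ha, hb, hc, hab, hac, hbc⟩ : ∃ a b c : Ω, t • a = a ∧ t • b = b ∧ t • c = c ∧
      a ≠ b ∧ a ≠ c ∧ b ≠ c := by
    have h1 : 2 < (Finset.univ.filter fun y : Ω => t • y = y).card := by
      rw [← Fintype.card_subtype, ← Nat.card_eq_fintype_card]
      have := h.fix_t
      rw [fixCard] at this
      omega
    obtain ⟨a, b, c, ha, hb, hc, hh⟩ := Finset.two_lt_card_iff.1 h1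
    simp only [Finset.mem_filter, Finset.mem_univ, true_and] at ha hb hc
    exact ⟨a, b, c, ha, hb, hc, hh⟩
  obtain ⟨u, hua, hub⟩ := h.exists_swap hab
  obtain ⟨v, hva, hvc⟩ := h.exists_swap hac
  have hu := h.swap_commute hab ha hb hua hub
  have hv := h.swap_commute hac ha hc hva hvc
  -- the centraliser has exponent two
  have hsq : ∀ g : G, Commute g t → g * g = 1 := by
    intro k hk
    by_cases hkΦ : ∀ x : Ω, t • x = x → k • x = x
    · have key : ∀ g : G, Commute g t → ∀ x : Ω, t • x = x → g • x ≠ x → g * k * g⁻¹ = k⁻¹ := by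
        intro g hg x hx hgx
        have h1 := h.sq_of_moves (hg.mul_left hk) hx (by rw [mul_smul, hkΦ x hx]; exact hgx)
        have h2 : g⁻¹ = g := inv_eq_of_mul_eq_one_right (h.sq_of_moves hg hx hgx)
        refine eq_inv_of_mul_eq_one_left ?_
        rw [h2, mul_assoc _ g k]
        exact h1
      have e1 := key u hu a ha (by rw [hua]; exact hab.symm)
      have e2 := key v hv a ha (by rw [hva]; exact hac.symm)
      have e3 := key (u * v) (hu.mul_left hv) c hc (by rw [mul_smul, hvc, hua]; exact hbc)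
      have e4 : u * v * k * (u * v)⁻¹ = k := by
        rw [show u * v * k * (u * v)⁻¹ = u * (v * k * v⁻¹) * u⁻¹ by group, e2,
          show u * k⁻¹ * u⁻¹ = (u * k * u⁻¹)⁻¹ by group, e1, inv_inv]
      rw [e4] at e3
      exact eq_inv_iff_mul_eq_one.1 e3
    · push Not at hkΦ
      obtain ⟨x, hx, hkx⟩ := hkΦ
      exact h.sq_of_moves hk hx hkx
  have hcomm : ∀ g k : G, Commute g t → Commute k t → g * k = k * g := by
    intro g k hg hk
    have h1 := hsq _ (hg.mul_left hk)
    calc g * k = (g * k)⁻¹ := (inv_eq_of_mul_eq_one_right h1).symm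
      _ = k⁻¹ * g⁻¹ := mul_inv_rev g k
      _ = k * g := by rw [inv_eq_of_mul_eq_one_right (hsq g hg), inv_eq_of_mul_eq_one_right (hsq k hk)]
  have htr : ∀ x y : Ω, t • x = x → t • y = y → ∃ g, Commute g t ∧ g • x = y := by
    intro x y hx hy
    by_cases hxy : x = y
    · exact ⟨1, Commute.one_left t, by rw [one_smul, hxy]⟩
    · obtain ⟨g, hg1, hg2⟩ := h.exists_swap hxy
      exact ⟨g, h.swap_commute hxy hx hy hg1 hg2, hg1⟩
  -- one point fixed means all fixed
  have hall : ∀ g : G, Commute g t → ∀ x : Ω, t • x = x → g • x = x →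
      ∀ y : Ω, t • y = y → g • y = y := by
    intro g hg x hx hgx y hy
    obtain ⟨p, hp, rfl⟩ := htr x y hx hy
    rw [smul_smul, hcomm g p hg hp, mul_smul, hgx]
  set D := stabilizer G a ⊓ stabilizer G b with hDdef
  set e := Nat.card D with he
  have hDm : ∀ g : G, g ∈ D ↔ g • a = a ∧ g • b = b := fun g => by
    rw [hDdef, Subgroup.mem_inf, mem_stabilizer_iff, mem_stabilizer_iff]
  have hDC : ∀ g ∈ D, Commute g t := fun g hg =>
    h.commute_of_fix hab ha hb ((hDm g).1 hg).1 ((hDm g).1 hg).2
  have hDiff : ∀ g : G, g ∈ D ↔ Commute g t ∧ g • a = a := fun g =>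
    ⟨fun hg => ⟨hDC g hg, ((hDm g).1 hg).1⟩, fun hg => (hDm g).2 ⟨hg.2, hall g hg.1 a ha hg.2 b hb⟩⟩
  -- the order of the centraliser
  have hC1 : Nat.card C = i * e := by
    let f : C → {x : Ω // t • x = x} := fun g => ⟨(g : G) • a, h.smul_fix ((hCm _).1 g.2) ha⟩
    haveI := Fintype.ofFinite {x : Ω // t • x = x}
    rw [← Nat.card_congr (Equiv.sigmaFiberEquiv f), Nat.card_sigma, Finset.sum_congr rfl (fun x _ => ?_),
      Finset.sum_const, Finset.card_univ, smul_eq_mul, ← Nat.card_eq_fintype_card]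
    · rw [← h.fix_t, fixCard]
    · obtain ⟨p, hp, hpx⟩ := htr a x.1 ha x.2
      rw [he]
      refine Nat.card_congr
        { toFun := fun g => ⟨p⁻¹ * g.1.1, (hDiff _).2 ⟨hp.inv_left.mul_left ((hCm _).1 g.1.2),
            by rw [mul_smul, inv_smul_eq_iff, hpx]; exact congrArg Subtype.val g.2⟩⟩
          invFun := fun d => ⟨⟨p * d.1, (hCm _).2 (hp.mul_left (hDC _ d.2))⟩,
            Subtype.ext (by show (p * d.1) • a = x.1; rw [mul_smul, ((hDm _).1 d.2).1, hpx])⟩
          left_inv := fun g => Subtype.ext (Subtype.ext (mul_inv_cancel_left _ _))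
          right_inv := fun d => Subtype.ext (inv_mul_cancel_left _ _) }
  have hexpD : ∀ x y : Ω, x ≠ y → ∀ g : G, g • x = x → g • y = y → g * g = 1 := by
    intro x y hxy g hgx hgy
    obtain ⟨p, hpx, hpy⟩ := h.move hxy hab
    have h1 : p * g * p⁻¹ ∈ D := (hDm _).2 ⟨by rw [mul_smul, mul_smul, ← hpx, inv_smul_smul, hgx],
      by rw [mul_smul, mul_smul, ← hpy, inv_smul_smul, hgy]⟩
    have h2 := hsq _ (hDC _ h1)
    have h3 : p * (g * g) * p⁻¹ = 1 := by
      rw [show p * (g * g) * p⁻¹ = p * g * p⁻¹ * (p * g * p⁻¹) by group, h2]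
    exact conj_eq_one_iff.1 h3
  -- a moved point has stabiliser of order `e` in the centraliser
  have hout : ∀ x : Ω, t • x ≠ x → Nat.card {g : C // (g : G) • x = x} = e := by
    intro x hx
    rw [he, hDdef, h.card_stabilizers hab (Ne.symm hx)]
    refine Nat.card_congr
      { toFun := fun g => ⟨g.1.1, Subgroup.mem_inf.2 ⟨mem_stabilizer_iff.2 g.2, mem_stabilizer_iff.2 (by
          rw [smul_smul, ((hCm _).1 g.1.2).eq, mul_smul, g.2])⟩⟩
        invFun := fun d => ⟨⟨d.1, (hCm _).2 ?_⟩, mem_stabilizer_iff.1 (Subgroup.mem_inf.1 d.2).1⟩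
        left_inv := fun _ => rfl
        right_inv := fun _ => rfl }
    obtain ⟨hd1, hd2⟩ := Subgroup.mem_inf.1 d.2
    have h1 := h.inverts (Ne.symm hx) rfl (by rw [smul_smul, h.tt, one_smul])
      (mem_stabilizer_iff.1 hd1) (mem_stabilizer_iff.1 hd2)
    rw [inv_eq_of_mul_eq_one_right (hexpD _ _ (Ne.symm hx) _ (mem_stabilizer_iff.1 hd1)
      (mem_stabilizer_iff.1 hd2))] at h1
    exact (mul_inv_eq_iff_eq_mul.1 h1).symm
  haveI : Fintype C := Fintype.ofFinite _
  have hcount : (i * e - e) * i = (Nat.card Ω - i) * (e - 1) := by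
    set X := Finset.univ.filter fun x : Ω => ¬ t • x = x with hX
    set E := Finset.univ.filter fun g : C => (g : G) ≠ 1 with hE
    have hXc : X.card = Nat.card Ω - i := by
      rw [hX, ← Fintype.card_subtype, Fintype.card_subtype_compl, ← h.fix_t, fixCard,
        Nat.card_eq_fintype_card, Nat.card_eq_fintype_card]
    have hswap := Finset.sum_card_bipartiteAbove_eq_sum_card_bipartiteBelow
      (fun (g : C) (x : Ω) => (g : G) • x = x) (s := E) (t := X)
    have hbelow : ∀ x ∈ X, (E.bipartiteBelow (fun (g : C) (x : Ω) => (g : G) • x = x) x).card = e - 1 := by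
      intro x hx
      simp only [hX, Finset.mem_filter, Finset.mem_univ, true_and] at hx
      rw [← hout x hx, Nat.card_eq_fintype_card, Fintype.card_subtype, Finset.bipartiteBelow]
      have h1 : (Finset.univ.filter fun g : C => (g : G) • x = x).erase 1 =
          E.filter fun g : C => (g : G) • x = x := by
        ext g
        simp only [hE, Finset.mem_erase, Finset.mem_filter, Finset.mem_univ, true_and, ne_eq,
          OneMemClass.coe_eq_one]
      rw [← h1, Finset.card_erase_of_mem (by simp)]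
    have habove : ∀ g ∈ E, (X.bipartiteAbove (fun (g : C) (x : Ω) => (g : G) • x = x) g).card =
        if (g : G) • a = a then 0 else i := by
      intro g hg
      simp only [hE, Finset.mem_filter, Finset.mem_univ, true_and] at hg
      split
      · next hga =>
        rw [Finset.card_eq_zero, Finset.bipartiteAbove, Finset.filter_eq_empty_iff]
        intro x hx hgx
        simp only [hX, Finset.mem_filter, Finset.mem_univ, true_and] at hx
        exact hx (h.fix_exact ((hCm _).1 g.2) hg (hall _ ((hCm _).1 g.2) a ha hga) hgx)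
      · next hga =>
        have h1 : Finset.filter (fun x : Ω => (g : G) • x = x) X =
            Finset.univ.filter fun x : Ω => (g : G) • x = x := by
          ext x
          simp only [hX, Finset.mem_filter, Finset.mem_univ, true_and, and_iff_right_iff_imp]
          exact fun hgx htx => hga (hall _ ((hCm _).1 g.2) x htx hgx a ha)
        rw [Finset.bipartiteAbove, h1, ← Fintype.card_subtype, ← Nat.card_eq_fintype_card]
        exact h.cent _ ((hCm _).1 g.2) hg
    rw [Finset.sum_congr rfl habove, Finset.sum_congr rfl hbelow, Finset.sum_ite, Finset.sum_const,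
      Finset.sum_const, Finset.sum_const, hXc] at hswap
    simp only [smul_eq_mul, mul_zero, zero_add] at hswap
    have hcard : (E.filter fun g : C => ¬ (g : G) • a = a).card = i * e - e := by
      have h1 : (E.filter fun g : C => ¬ (g : G) • a = a) =
          Finset.univ.filter fun g : C => ¬ (g : G) • a = a := by
        ext g
        simp only [hE, Finset.mem_filter, Finset.mem_univ, true_and, and_iff_right_iff_imp]
        exact fun hg e1 => hg (by rw [e1, one_smul])
      rw [h1, ← Fintype.card_subtype, Fintype.card_subtype_compl, ← Nat.card_eq_fintype_card, hC1,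
        ← Nat.card_eq_fintype_card (α := {g : C // (g : G) • a = a})]
      congr 1
      exact Nat.card_congr
        { toFun := fun g => ⟨g.1.1, (hDiff _).2 ⟨(hCm _).1 g.1.2, g.2⟩⟩
          invFun := fun d => ⟨⟨d.1, (hCm _).2 (hDC _ d.2)⟩, ((hDm _).1 d.2).1⟩
          left_inv := fun _ => rfl
          right_inv := fun _ => rfl }
    rw [hcard] at hswap
    exact hswap
  have hn : Nat.card Ω - i = i * e := h.card_cent.symm.trans hC1
  have he1 : 1 < e := by
    rw [he, Finite.one_lt_card_iff_nontrivial]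
    exact ⟨⟨⟨t, (hDm t).2 ⟨ha, hb⟩⟩, 1, fun e' => h.ne_one (congrArg Subtype.val e')⟩⟩
  have hie : i = e := by
    rw [hn, show i * e - e = (i - 1) * e by rw [Nat.sub_mul, one_mul]] at hcount
    have h1 : (i - 1) * (e * i) = (e - 1) * (e * i) := by
      rw [← mul_assoc, hcount]; ring
    have := Nat.eq_of_mul_eq_mul_right (Nat.mul_pos (by omega : 0 < e) (by omega : 0 < i)) h1
    omega
  -- conjugation inside the stabiliser of `a`
  set Φ : Set Ω := {x | t • x = x} with hΦ
  set H := stabilizer G a ⊓ stabilizer G Φ with hH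
  have hΦmem : ∀ p : G, (p ∈ stabilizer G Φ ↔ ∀ x : Ω, t • x = x ↔ t • p • x = p • x) := by
    intro p
    rw [mem_stabilizer_iff]
    constructor
    · intro hp x
      have h1 : p • x ∈ p • Φ ↔ x ∈ Φ := Set.smul_mem_smul_set_iff
      rw [hp] at h1
      exact h1.symm
    · intro hp
      ext y
      rw [Set.mem_smul_set_iff_inv_smul_mem]
      have h1 := hp (p⁻¹ • y)
      rw [smul_inv_smul] at h1
      exact h1
  let J := {s : D // s ≠ 1}
  have hfixH : ∀ p : H, (p.1 • a = a) ∧ ∀ x : Ω, t • x = x ↔ t • p.1 • x = p.1 • x := fun p => by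
    obtain ⟨h1, h2⟩ := Subgroup.mem_inf.1 p.2
    exact ⟨h1, (hΦmem _).1 h2⟩
  let f : H → J := fun p => ⟨⟨p.1 * t * p.1⁻¹, by
    obtain ⟨h1, h2⟩ := hfixH p
    have h3 : ∀ x : Ω, t • x = x → (p.1 * t * p.1⁻¹) • x = x := fun x hx => by
      have h4 : t • p.1⁻¹ • x = p.1⁻¹ • x := (h2 _).2 (by rw [smul_inv_smul]; exact hx)
      rw [mul_smul, mul_smul, h4, smul_inv_smul]
    exact (hDm _).2 ⟨h3 a ha, h3 b hb⟩⟩, fun e1 => h.ne_one (conj_eq_one_iff.1 (congrArg Subtype.val e1))⟩
  have hHcard : Nat.card H = (e - 1) * e := by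
    haveI : Fintype J := Fintype.ofFinite _
    rw [← Nat.card_congr (Equiv.sigmaFiberEquiv f), Nat.card_sigma, Finset.sum_congr rfl (fun s _ => ?_),
      Finset.sum_const, Finset.card_univ, smul_eq_mul]
    · haveI : Fintype D := Fintype.ofFinite _
      rw [show Fintype.card J = e - 1 by
        rw [Fintype.card_subtype_compl, Fintype.card_subtype_eq, he, Nat.card_eq_fintype_card]]
    · have hs1 : (s.1 : G) ≠ 1 := fun e1 => s.2 (Subtype.ext e1)
      obtain ⟨p, hp⟩ : ∃ p : H, f p = s := by
        have hs2 : orderOf (s.1 : G) = 2 :=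
          orderOf_eq_prime (p := 2) (by rw [sq]; exact hexpD a b hab _ ((hDm _).1 s.1.2).1 ((hDm _).1 s.1.2).2) hs1
        obtain ⟨g, hg⟩ := isConj_iff.1 (h.invol_conj hs2)
        have hsfix : ∀ x : Ω, (s.1 : G) • x = x ↔ t • x = x := fun x =>
          ⟨fun hx => h.fix_exact (hDC _ s.1.2) hs1 (hall _ (hDC _ s.1.2) a ha ((hDm _).1 s.1.2).1) hx,
            fun hx => hall _ (hDC _ s.1.2) a ha ((hDm _).1 s.1.2).1 x hx⟩
        have hgΦ : ∀ x : Ω, t • x = x ↔ t • g • x = g • x := fun x => by
          rw [← hsfix (g • x), ← hg, mul_smul, mul_smul, inv_smul_smul, smul_left_cancel_iff]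
        obtain ⟨q, hq, hqa⟩ := htr a (g⁻¹ • a) ha
          ((hgΦ _).2 (by rw [smul_inv_smul]; exact ha))
        refine ⟨⟨g * q, Subgroup.mem_inf.2 ⟨mem_stabilizer_iff.2 (by rw [mul_smul, hqa, smul_inv_smul]),
          (hΦmem _).2 fun x => ?_⟩⟩, Subtype.ext (Subtype.ext ?_)⟩
        · rw [mul_smul, ← hgΦ]
          exact ⟨fun hx => h.smul_fix hq hx, fun hx => by
            have := h.smul_fix hq.inv_left hx
            rwa [inv_smul_smul] at this⟩
        · show g * q * t * (g * q)⁻¹ = s.1
          rw [← hg, mul_assoc g q t, hq.eq]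
          group
      rw [he]
      refine Nat.card_congr
        { toFun := fun k => ⟨p.1⁻¹ * k.1.1, (hDiff _).2 ⟨?_, ?_⟩⟩
          invFun := fun d => ⟨⟨p.1 * d.1, Subgroup.mem_inf.2 ⟨?_, ?_⟩⟩, Subtype.ext (Subtype.ext ?_)⟩
          left_inv := fun k => Subtype.ext (Subtype.ext (mul_inv_cancel_left _ _))
          right_inv := fun d => Subtype.ext (inv_mul_cancel_left _ _) }
      · have e1 : k.1.1 * t * k.1.1⁻¹ = p.1 * t * p.1⁻¹ :=
          congrArg (fun z : J => (z.1 : G)) (k.2.trans hp.symm)
        calc p.1⁻¹ * k.1.1 * t = p.1⁻¹ * (k.1.1 * t * k.1.1⁻¹) * k.1.1 := by group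
          _ = p.1⁻¹ * (p.1 * t * p.1⁻¹) * k.1.1 := by rw [e1]
          _ = t * (p.1⁻¹ * k.1.1) := by group
      · rw [mul_smul, (hfixH k.1).1, inv_smul_eq_iff, (hfixH p).1]
      · exact mem_stabilizer_iff.2 (by rw [mul_smul, ((hDm _).1 d.2).1, (hfixH p).1])
      · refine (hΦmem _).2 fun x => ?_
        rw [mul_smul, ← (hfixH p).2]
        exact ⟨fun hx => h.smul_fix (hDC _ d.2) hx, fun hx => by
          have := h.smul_fix (hDC _ d.2).inv_left hx
          rwa [inv_smul_smul] at this⟩
      · show p.1 * d.1 * t * (p.1 * d.1)⁻¹ = s.1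
        rw [show p.1 * d.1 * t * (p.1 * d.1)⁻¹ = p.1 * (d.1 * t * d.1⁻¹) * p.1⁻¹ by group,
          (hDC _ d.2).eq, mul_inv_cancel_right]
        exact congrArg (fun z : J => (z.1 : G)) hp
  have hstab : Nat.card ↥(stabilizer G a) = (Nat.card Ω - 1) * e := by
    have h1 := h.card_group hab
    rw [← Subgroup.card_mul_index (stabilizer G a)] at h1
    haveI := h.two
    haveI : IsPretransitive G Ω := isPretransitive_of_is_two_pretransitive
    rw [index_stabilizer_of_transitive G a] at h1
    have hpos : 0 < Nat.card Ω := Nat.card_pos_iff.2 ⟨⟨a⟩, inferInstance⟩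
    refine Nat.eq_of_mul_eq_mul_left hpos ?_
    rw [mul_comm (Nat.card Ω) (Nat.card ↥(stabilizer G a)), h1, he]
    ring
  have hdvd : e - 1 ∣ Nat.card Ω - 1 := by
    have h1 : Nat.card H ∣ Nat.card ↥(stabilizer G a) := Subgroup.card_dvd_of_le inf_le_left
    rw [hHcard, hstab] at h1
    exact Nat.dvd_of_mul_dvd_mul_right (by omega) h1
  rw [← hie] at hdvd hn
  obtain ⟨k, hk⟩ : ∃ k, i = k + 3 := ⟨i - 3, by omega⟩
  subst hk
  have hn' : Nat.card Ω = (k + 3) + (k + 3) * (k + 3) := by
    have := h.lt_card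
    omega
  rw [hn', show k + 3 + (k + 3) * (k + 3) - 1 = (k + 2) * (k + 5) + 1 by ring_nf; omega,
    show k + 3 - 1 = k + 2 by omega, Nat.dvd_add_right (dvd_mul_right _ _), Nat.dvd_one] at hdvd
  omega

/-- The stabiliser of three points is trivial when `t` fixes exactly two. -/
theorem Hyp.three_two (hi : i = 2) {a b c : Ω} (hab : a ≠ b) (hbc : b ≠ c) (hac : a ≠ c) {g : G}
    (hga : g • a = a) (hgb : g • b = b) (hgc : g • c = c) : g = 1 := by
  classical
  haveI := Fintype.ofFinite Ω
  by_contra hg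
  subst hi
  obtain ⟨x, y, hxy, hΦ⟩ : ∃ x y, x ≠ y ∧ (Finset.univ.filter fun z : Ω => t • z = z) = {x, y} :=
    Finset.card_eq_two.1 (by rw [← Fintype.card_subtype, ← Nat.card_eq_fintype_card]; exact h.fix_t)
  have hx : t • x = x := by
    have : x ∈ Finset.univ.filter fun z : Ω => t • z = z := by rw [hΦ]; simp
    simpa using this
  have hy : t • y = y := by
    have : y ∈ Finset.univ.filter fun z : Ω => t • z = z := by rw [hΦ]; simp
    simpa using this
  obtain ⟨p, hpa, hpb⟩ := h.move hab hxy
  have hconj : ∀ z : Ω, g • z = z → (p * g * p⁻¹) • p • z = p • z := fun z hz => by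
    rw [mul_smul, mul_smul, inv_smul_smul, hz]
  have h1 := hconj a hga
  have h2 := hconj b hgb
  rw [hpa] at h1
  rw [hpb] at h2
  have hc : t • p • c = p • c := h.fix_exact (g := p * g * p⁻¹) (h.commute_of_fix hxy hx hy h1 h2)
    (fun e => hg (conj_eq_one_iff.1 e)) (fun z hz => by
      have : z ∈ Finset.univ.filter fun z : Ω => t • z = z := by simp [hz]
      rw [hΦ, Finset.mem_insert, Finset.mem_singleton] at this
      rcases this with rfl | rfl
      · exact h1
      · exact h2) (hconj c hgc)
  have : p • c ∈ Finset.univ.filter fun z : Ω => t • z = z := by simp [hc]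
  rw [hΦ, Finset.mem_insert, Finset.mem_singleton] at this
  rcases this with e | e
  · exact hac (smul_left_cancel p (hpa.trans e.symm))
  · exact hbc (smul_left_cancel p (hpb.trans e.symm))

end CfsgLib.SameFix
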