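import Cfsg.Agent.SameFix.Three
import Cfsg.Agent.SameFix.Large
import Cfsg.Agent.SameFix.ZassIso
import Cfsg.Agent.S0339
import Cfsg.Agent.Char.FrobeniusKernel

/-!
# Doubly transitive groups with an involution centraliser of constant fixity
-/

set_option autoImplicit false
set_option linter.unusedSectionVars false
set_option linter.style.haveILetI false

namespace CfsgLib.SameFix

open MulAction

variable {G Ω : Type*} [Group G] [MulAction G Ω] [FaithfulSMul G Ω] [Finite G] [Finite Ω]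
variable {t : G} {i : ℕ} (h : Hyp G Ω t i)
include h

/-- The stabiliser of three points is trivial. -/
theorem Hyp.three {a b c : Ω} (hab : a ≠ b) (hbc : b ≠ c) (hac : a ≠ c) {g : G}
    (hga : g • a = a) (hgb : g • b = b) (hgc : g • c = c) : g = 1 := by
  rcases (show i ≤ 1 ∨ i = 2 by have := h.le_two; omega) with hi | hi
  · exact h.three_small hi hab hbc hac hga hgb hgc
  · exact h.three_two hi hab hbc hac hga hgb hgc

theorem Hyp.isSimple_of_zass (hZ : Cfsg.IsZassenhausGroup G Ω) : IsSimpleGroup G := by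
  haveI : Nontrivial G := ⟨⟨t, 1, h.ne_one⟩⟩
  refine ⟨fun N hN => or_iff_not_imp_left.2 fun hN1 => ?_⟩
  haveI := hN
  have hZN := Cfsg.Agent.S0339.result hZ N hN1
  have hmove : ∀ {a b c d : Ω}, a ≠ b → c ≠ d → ∃ n : N, n • a = c ∧ n • b = d :=
    fun hab hcd => MulAction.is_two_pretransitive_iff.1 hZN.2.1 hab hcd
  refine eq_top_iff.2 fun g _ => ?_
  obtain ⟨g₁, -, a, b, hab, -, -⟩ := hZ.2.2.2.1
  obtain ⟨u, hu1, hu2⟩ := hmove hab (Ne.symm hab)
  rw [Subgroup.smul_def] at hu1 hu2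
  -- all swappers lie in `N`
  have htN : t ∈ N := by
    obtain ⟨c, hc⟩ := isConj_iff.1 (h.swap_conj hab hu1 hu2).symm
    rw [← hc]
    exact hN.conj_mem _ u.2 c
  have hsw : ∀ w : G, w • a = b → w • b = a → w ∈ N := fun w hw1 hw2 => by
    obtain ⟨c, hc⟩ := isConj_iff.1 (h.swap_conj hab hw1 hw2)
    rw [← hc]
    exact hN.conj_mem t htN c
  obtain ⟨n, hn1, hn2⟩ := hmove hab (fun e => hab (smul_left_cancel g e) : g • a ≠ g • b)
  rw [Subgroup.smul_def] at hn1 hn2
  have hD : (n : G)⁻¹ * g ∈ N := by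
    have h1 : (u : G) * ((n : G)⁻¹ * g) ∈ N := hsw _
      (by rw [mul_smul, mul_smul, ← hn1, inv_smul_smul, hu1])
      (by rw [mul_smul, mul_smul, ← hn2, inv_smul_smul, hu2])
    simpa using mul_mem (inv_mem u.2) h1
  simpa using mul_mem n.2 hD

/-- The classification. -/
theorem Hyp.main :
    (∃ (F : Type) (_ : Field F) (_ : Fintype F),
      Nonempty (G ≃* Matrix.ProjectiveSpecialLinearGroup (Fin 2) F)) ∨
    Cfsg.Lie.IsoSuzuki G ∨
    (∃ R : Subgroup G, R.Normal ∧ (∀ x y : Ω, ∃ r ∈ R, r • x = y) ∧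
      ∀ x : Ω, ∀ r ∈ R, r • x = x → r = 1) := by
  classical
  obtain ⟨a, ha⟩ := h.exists_moved
  haveI := h.two
  haveI hpre : IsPretransitive G Ω := isPretransitive_of_is_two_pretransitive
  by_cases hfix : ∃ g : G, g ≠ 1 ∧ ∃ a b : Ω, a ≠ b ∧ g • a = a ∧ g • b = b
  · by_cases hreg : ∃ N : Subgroup G, N.Normal ∧ IsPretransitive N Ω ∧ ∀ x : Ω, stabilizer N x = ⊥
    · obtain ⟨N, hN, hNt, hNr⟩ := hreg
      refine Or.inr (Or.inr ⟨N, hN, fun x y => ?_, fun x r hr hrx => ?_⟩)
      · obtain ⟨r, hr⟩ := hNt.exists_smul_eq x y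
        exact ⟨r, r.2, hr⟩
      · have h1 : (⟨r, hr⟩ : N) ∈ stabilizer N x := hrx
        rw [hNr x, Subgroup.mem_bot] at h1
        exact congrArg Subtype.val h1
    · have hZ : Cfsg.IsZassenhausGroup G Ω := ⟨inferInstance, h.two,
        fun g x y z hxy hyz hxz hgx hgy hgz => h.three hxy hyz hxz hgx hgy hgz, hfix,
        fun N hN hNt => by
          by_contra hc
          push Not at hc
          exact hreg ⟨N, hN, hNt, hc⟩⟩
      haveI := h.isSimple_of_zass hZ
      rcases psl2_or_suzuki_of_zass hZ with h1 | h1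
      · exact Or.inl h1
      · exact Or.inr (Or.inl h1)
  · -- sharply two-transitive
    push Not at hfix
    refine Or.inr (Or.inr ?_)
    obtain ⟨K, hKn, hKi, hsup, -, -⟩ := CfsgLib.Char.exists_frobenius_kernel (stabilizer G a)
      (fun g hg x hx hgx => by
        by_contra hx1
        have h1 : g⁻¹ • a ≠ a := fun e => hg (mem_stabilizer_iff.2 (inv_smul_eq_iff.1 e).symm)
        refine hfix x hx1 (g⁻¹ • a) a h1 ?_ hx
        have h2 : g • x • g⁻¹ • a = a := by
          rw [← mul_smul, ← mul_smul]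
          exact hgx
        exact eq_inv_smul_iff.2 h2)
    haveI := hKn
    have htrK : ∀ y : Ω, ∃ r ∈ K, r • a = y := by
      intro y
      obtain ⟨g, rfl⟩ := MulAction.exists_smul_eq G a y
      have hg : g ∈ ((K ⊔ stabilizer G a : Subgroup G) : Set G) := by rw [hsup]; trivial
      rw [Subgroup.normal_mul] at hg
      obtain ⟨r, hr, s, hs, rfl⟩ := hg
      exact ⟨r, hr, by show r • a = (r * s) • a; rw [mul_smul, mem_stabilizer_iff.1 hs]⟩
    refine ⟨K, hKn, fun x y => ?_, fun x r hr hrx => ?_⟩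
    · obtain ⟨p, hp, rfl⟩ := htrK x
      obtain ⟨q, hq, rfl⟩ := htrK y
      exact ⟨q * p⁻¹, mul_mem hq (inv_mem hp), by rw [mul_smul, inv_smul_smul]⟩
    · obtain ⟨p, hp, rfl⟩ := htrK x
      have h1 : p⁻¹ * r * p ∈ K ⊓ stabilizer G a := Subgroup.mem_inf.2
        ⟨mul_mem (mul_mem (inv_mem hp) hr) hp,
          mem_stabilizer_iff.2 (by rw [mul_smul, mul_smul, hrx, inv_smul_smul])⟩
      rw [hKi, Subgroup.mem_bot] at h1
      calc r = p * (p⁻¹ * r * p) * p⁻¹ := by group
        _ = 1 := by rw [h1, mul_one, mul_inv_cancel]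

end CfsgLib.SameFix
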