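import Mathlib.GroupTheory.GroupAction.MultipleTransitivity
import Mathlib.GroupTheory.GroupAction.Quotient
import Mathlib.GroupTheory.Perm.Cycle.Type

/-!
# A doubly transitive group with an involution whose centraliser has constant fixity: counting

If `t` is an involution and every non-identity element commuting with `t` fixes exactly as many
points as `t`, then the centraliser has order equal to the number of points moved by `t`, and every
element interchanging two points is conjugate to `t`.
-/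

set_option autoImplicit false
set_option linter.unusedSectionVars false
set_option linter.style.haveILetI false

namespace CfsgLib.SameFix

open MulAction

variable {G Ω : Type*} [Group G] [MulAction G Ω]

/-- The number of fixed points of an element. -/
noncomputable def fixCard (Ω : Type*) [MulAction G Ω] (g : G) : ℕ := Nat.card {x : Ω // g • x = x}

/-- The hypotheses. -/
structure Hyp (G Ω : Type*) [Group G] [MulAction G Ω] (t : G) (i : ℕ) : Prop where
  two : IsMultiplyPretransitive G Ω 2
  ord : orderOf t = 2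
  fix_t : fixCard Ω t = i
  cent : ∀ g : G, Commute g t → g ≠ 1 → fixCard Ω g = i

theorem fixCard_conj (c g : G) : fixCard Ω (c * g * c⁻¹) = fixCard Ω g := by
  refine Nat.card_congr ((MulAction.toPerm c⁻¹).subtypeEquiv fun x => ?_)
  simp only [MulAction.toPerm_apply, mul_smul]
  constructor
  · intro h
    rw [eq_inv_smul_iff, h]
  · intro h
    rw [h, smul_inv_smul]

variable [FaithfulSMul G Ω] [Finite G] [Finite Ω] {t : G} {i : ℕ} (h : Hyp G Ω t i)
include h

theorem Hyp.move {a b c d : Ω} (hab : a ≠ b) (hcd : c ≠ d) : ∃ g : G, g • a = c ∧ g • b = d :=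
  MulAction.is_two_pretransitive_iff.1 h.two hab hcd

theorem Hyp.ne_one : t ≠ 1 := fun e => by
  have := h.ord
  rw [e, orderOf_one] at this
  omega

theorem Hyp.exists_moved : ∃ x : Ω, t • x ≠ x := by
  by_contra hc
  push Not at hc
  exact h.ne_one (FaithfulSMul.eq_of_smul_eq_smul fun x : Ω => by rw [hc x, one_smul])

theorem Hyp.lt_card : i < Nat.card Ω := by
  obtain ⟨x, hx⟩ := h.exists_moved
  haveI := Fintype.ofFinite Ω
  classical
  rw [← h.fix_t, fixCard, Nat.card_eq_fintype_card, Nat.card_eq_fintype_card]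
  exact Fintype.card_subtype_lt hx

theorem Hyp.card_stabilizers {a b c d : Ω} (hab : a ≠ b) (hcd : c ≠ d) :
    Nat.card ↥(stabilizer G a ⊓ stabilizer G b) = Nat.card ↥(stabilizer G c ⊓ stabilizer G d) := by
  obtain ⟨g, hga, hgb⟩ := h.move hab hcd
  refine Nat.card_congr ((MulAut.conj g).toEquiv.subtypeEquiv fun x => ?_)
  simp only [Subgroup.mem_inf, mem_stabilizer_iff, MulEquiv.toEquiv_eq_coe, MulEquiv.coe_toEquiv,
    MulAut.conj_apply]
  rw [← hga, ← hgb]
  simp only [mul_smul, inv_smul_smul, smul_left_cancel_iff]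

theorem Hyp.card_off : Nat.card {p : Ω × Ω // p.1 ≠ p.2} = Nat.card Ω * (Nat.card Ω - 1) := by
  classical
  haveI := Fintype.ofFinite Ω
  rw [Nat.card_eq_fintype_card, Nat.card_eq_fintype_card]
  rw [Fintype.card_congr (Equiv.subtypeProdEquivSigmaSubtype fun a b : Ω => a ≠ b), Fintype.card_sigma,
    Finset.sum_congr rfl fun a _ => (Fintype.card_congr (Equiv.subtypeEquivRight fun b => ne_comm) :
      Fintype.card {b : Ω // a ≠ b} = Fintype.card {b : Ω // b ≠ a})]
  simp [Fintype.card_subtype_compl, Finset.card_univ]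

theorem Hyp.card_group {a b : Ω} (hab : a ≠ b) :
    Nat.card G = Nat.card Ω * (Nat.card Ω - 1) * Nat.card ↥(stabilizer G a ⊓ stabilizer G b) := by
  classical
  let f : G → {p : Ω × Ω // p.1 ≠ p.2} := fun g =>
    ⟨(g • a, g • b), fun e => hab (smul_left_cancel g e)⟩
  haveI := Fintype.ofFinite {p : Ω × Ω // p.1 ≠ p.2}
  rw [← Nat.card_congr (Equiv.sigmaFiberEquiv f), Nat.card_sigma, Finset.sum_congr rfl (fun p _ => ?_),
    Finset.sum_const, Finset.card_univ, ← Nat.card_eq_fintype_card, h.card_off, smul_eq_mul]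
  obtain ⟨g, hga, hgb⟩ := h.move hab p.2
  refine Nat.card_congr ((Equiv.mulLeft g⁻¹).subtypeEquiv fun x => ?_)
  simp only [Subgroup.mem_inf, mem_stabilizer_iff, Equiv.coe_mulLeft, mul_smul, inv_smul_eq_iff,
    hga, hgb]
  constructor
  · intro e
    exact ⟨congrArg (fun q => q.1.1) e, congrArg (fun q => q.1.2) e⟩
  · rintro ⟨e1, e2⟩
    exact Subtype.ext (Prod.ext e1 e2)

theorem Hyp.card_conj :
    Nat.card {s : G // IsConj t s} * Nat.card ↥(Subgroup.centralizer ({t} : Set G)) = Nat.card G := by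
  have h1 := Nat.card_congr (MulAction.orbitEquivQuotientStabilizer (ConjAct G) t)
  have h2 : Nat.card {s : G // IsConj t s} = Nat.card (MulAction.orbit (ConjAct G) t) :=
    Nat.card_congr (Equiv.subtypeEquivRight fun s => by
      rw [ConjAct.mem_orbit_conjAct]
      exact ⟨IsConj.symm, IsConj.symm⟩)
  have h3 : Nat.card ↥(MulAction.stabilizer (ConjAct G) t) =
      Nat.card ↥(Subgroup.centralizer ({t} : Set G)) := by
    refine Nat.card_congr (ConjAct.ofConjAct.toEquiv.subtypeEquiv fun g => ?_)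
    simp only [mem_stabilizer_iff, Subgroup.mem_centralizer_singleton_iff, MulEquiv.toEquiv_eq_coe,
      MulEquiv.coe_toEquiv, ConjAct.smul_def, mul_inv_eq_iff_eq_mul]
  rw [h2, ← h3, h1, ← Subgroup.card_eq_card_quotient_mul_card_subgroup]
  exact Nat.card_congr ConjAct.ofConjAct.toEquiv

theorem Hyp.cent_dvd : Nat.card ↥(Subgroup.centralizer ({t} : Set G)) ∣ Nat.card Ω - i := by
  classical
  set C := Subgroup.centralizer ({t} : Set G)
  haveI := Fintype.ofFinite C
  haveI := Fintype.ofFinite Ω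
  haveI : Fintype (Quotient (orbitRel C Ω)) := Fintype.ofFinite _
  have key := MulAction.sum_card_fixedBy_eq_card_orbits_mul_card_group C Ω
  have hval : ∀ g : C, Fintype.card (fixedBy Ω g) = if g = 1 then Fintype.card Ω else i := by
    intro g
    split
    · next hg =>
      subst hg
      exact Fintype.card_congr ((Equiv.subtypeEquivRight fun x => by simp).trans
        (Equiv.subtypeUnivEquiv fun x => trivial))
    · next hg =>
      rw [← h.cent g (Subgroup.mem_centralizer_singleton_iff.1 g.2) (fun e => hg (Subtype.ext e)),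
        fixCard, ← Nat.card_eq_fintype_card]
      rfl
  rw [Finset.sum_congr rfl (fun g _ => hval g), Finset.sum_ite, Finset.filter_eq', if_pos (Finset.mem_univ _),
    Finset.sum_singleton, Finset.sum_const, Finset.filter_ne', Finset.card_erase_of_mem (Finset.mem_univ _),
    Finset.card_univ, smul_eq_mul] at key
  have hlt := h.lt_card
  rw [Nat.card_eq_fintype_card, Nat.card_eq_fintype_card] at *
  have hpos : 0 < Fintype.card C := Fintype.card_pos
  refine ⟨Fintype.card (Quotient (orbitRel C Ω)) - i, ?_⟩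
  rw [Nat.mul_sub, mul_comm (Fintype.card C) (Fintype.card (Quotient _)), ← key, Nat.sub_one_mul]
  have : i ≤ Fintype.card C * i := Nat.le_mul_of_pos_left i hpos
  omega

/-- The centraliser of `t` has as many elements as `t` moves points, and every element
interchanging two points is conjugate to `t`. -/
theorem Hyp.count :
    Nat.card ↥(Subgroup.centralizer ({t} : Set G)) = Nat.card Ω - i ∧
      ∀ (a b : Ω), a ≠ b → ∀ g : G, g • a = b → g • b = a → IsConj t g := by
  classical
  set C := Subgroup.centralizer ({t} : Set G)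
  obtain ⟨x, hx⟩ := h.exists_moved
  let Inc := {p : G × Ω // IsConj t p.1 ∧ p.1 • p.2 ≠ p.2}
  let Sw := {q : (Ω × Ω) × G // q.1.1 ≠ q.1.2 ∧ q.2 • q.1.1 = q.1.2 ∧ q.2 • q.1.2 = q.1.1}
  have hsq : ∀ s : G, IsConj t s → s * s = 1 := fun s hs => by
    obtain ⟨c, rfl⟩ := isConj_iff.1 hs
    rw [show c * t * c⁻¹ * (c * t * c⁻¹) = c * (t * t) * c⁻¹ by group,
      show t * t = 1 by rw [← sq, ← h.ord, pow_orderOf_eq_one], mul_one, mul_inv_cancel]
  let f : Inc → Sw := fun p => ⟨((p.1.2, p.1.1 • p.1.2), p.1.1), Ne.symm p.2.2, rfl, by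
    show p.1.1 • p.1.1 • p.1.2 = p.1.2
    rw [smul_smul, hsq _ p.2.1, one_smul]⟩
  have hf : Function.Injective f := fun p q e => by
    have e1 := congrArg (fun z : Sw => (z.1.2, z.1.1.1)) e
    exact Subtype.ext e1
  have hInc : Nat.card Inc = Nat.card {s : G // IsConj t s} * (Nat.card Ω - i) := by
    haveI := Fintype.ofFinite {s : G // IsConj t s}
    let e : Inc ≃ Σ s : {s : G // IsConj t s}, {y : Ω // ¬ (s.1 • y = y)} :=
      { toFun := fun p => ⟨⟨p.1.1, p.2.1⟩, ⟨p.1.2, p.2.2⟩⟩
        invFun := fun q => ⟨(q.1.1, q.2.1), q.1.2, q.2.2⟩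
        left_inv := fun _ => rfl
        right_inv := fun _ => rfl }
    rw [Nat.card_congr e, Nat.card_sigma, Finset.sum_congr rfl (fun s _ => ?_), Finset.sum_const,
      Finset.card_univ, smul_eq_mul, Nat.card_eq_fintype_card]
    obtain ⟨c, hc⟩ := isConj_iff.1 s.2
    haveI := Fintype.ofFinite Ω
    rw [← h.fix_t, ← fixCard_conj c t, hc, fixCard, Nat.card_eq_fintype_card, Nat.card_eq_fintype_card,
      Nat.card_eq_fintype_card, Fintype.card_subtype_compl]
  have hxt : x ≠ t • x := Ne.symm hx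
  set e := Nat.card ↥(stabilizer G x ⊓ stabilizer G (t • x)) with he
  have hSw : Nat.card Sw = Nat.card Ω * (Nat.card Ω - 1) * e := by
    haveI := Fintype.ofFinite {p : Ω × Ω // p.1 ≠ p.2}
    let ε : Sw ≃ Σ p : {p : Ω × Ω // p.1 ≠ p.2}, {g : G // g • p.1.1 = p.1.2 ∧ g • p.1.2 = p.1.1} :=
      { toFun := fun q => ⟨⟨q.1.1, q.2.1⟩, ⟨q.1.2, q.2.2⟩⟩
        invFun := fun q => ⟨(q.1.1, q.2.1), q.1.2, q.2.2⟩
        left_inv := fun _ => rfl
        right_inv := fun _ => rfl }
    rw [Nat.card_congr ε, Nat.card_sigma, Finset.sum_congr rfl (fun p _ => ?_), Finset.sum_const,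
      Finset.card_univ, ← Nat.card_eq_fintype_card, h.card_off, smul_eq_mul]
    obtain ⟨g, hg1, hg2⟩ := h.move p.2 (Ne.symm p.2)
    rw [he, h.card_stabilizers hxt p.2]
    refine Nat.card_congr ((Equiv.mulLeft g⁻¹).subtypeEquiv fun z => ?_)
    simp only [Subgroup.mem_inf, mem_stabilizer_iff, Equiv.coe_mulLeft, mul_smul, inv_smul_eq_iff,
      hg1, hg2]
  have hG := h.card_group hxt
  rw [← h.card_conj, ← hSw] at hG
  have hle := Nat.card_le_card_of_injective f hf
  have hTpos : 0 < Nat.card {s : G // IsConj t s} :=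
    Nat.card_pos_iff.2 ⟨⟨⟨t, IsConj.refl t⟩⟩, inferInstance⟩
  have h1 : Nat.card Ω - i ≤ Nat.card C := by
    rw [hInc, ← hG] at hle
    exact Nat.le_of_mul_le_mul_left hle hTpos
  have h2 : Nat.card C ≤ Nat.card Ω - i :=
    Nat.le_of_dvd (Nat.sub_pos_of_lt h.lt_card) h.cent_dvd
  refine ⟨le_antisymm h2 h1, fun a b hab g hga hgb => ?_⟩
  have hbij : Function.Bijective f := hf.bijective_of_nat_card_le (by
    rw [← hG, hInc]; exact Nat.mul_le_mul_left _ h2)
  obtain ⟨p, hp⟩ := hbij.2 ⟨((a, b), g), hab, hga, hgb⟩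
  have : p.1.1 = g := congrArg (fun z : Sw => z.1.2) hp
  exact this ▸ p.2.1

end CfsgLib.SameFix
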