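import Cfsg.Agent.SameFix.Count
import Cfsg.Agent.Invol.Dihedral

/-!
# Consequences of the count: interchanging elements and two-point stabilisers
-/

set_option autoImplicit false
set_option linter.unusedSectionVars false
set_option linter.style.haveILetI false

namespace CfsgLib.SameFix

open MulAction

variable {G Ω : Type*} [Group G] [MulAction G Ω] [FaithfulSMul G Ω] [Finite G] [Finite Ω]
variable {t : G} {i : ℕ} (h : Hyp G Ω t i)
include h

theorem Hyp.tt : t * t = 1 := by rw [← sq, ← h.ord, pow_orderOf_eq_one]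

theorem Hyp.card_cent : Nat.card ↥(Subgroup.centralizer ({t} : Set G)) = Nat.card Ω - i := h.count.1

theorem Hyp.swap_conj {a b : Ω} (hab : a ≠ b) {g : G} (ha : g • a = b) (hb : g • b = a) : IsConj t g :=
  h.count.2 a b hab g ha hb

theorem Hyp.exists_swap {a b : Ω} (hab : a ≠ b) : ∃ g : G, g • a = b ∧ g • b = a :=
  h.move hab (Ne.symm hab)

theorem Hyp.conj_sq {g : G} (hg : IsConj t g) : g * g = 1 := by
  obtain ⟨c, rfl⟩ := isConj_iff.1 hg
  rw [show c * t * c⁻¹ * (c * t * c⁻¹) = c * (t * t) * c⁻¹ by group, h.tt, mul_one, mul_inv_cancel]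

theorem Hyp.swap_sq {a b : Ω} (hab : a ≠ b) {g : G} (ha : g • a = b) (hb : g • b = a) : g * g = 1 :=
  h.conj_sq (h.swap_conj hab ha hb)

theorem Hyp.swap_fix {a b : Ω} (hab : a ≠ b) {g : G} (ha : g • a = b) (hb : g • b = a) :
    fixCard Ω g = i := by
  obtain ⟨c, rfl⟩ := isConj_iff.1 (h.swap_conj hab ha hb)
  rw [fixCard_conj, h.fix_t]

/-- An element interchanging two points inverts their stabiliser. -/
theorem Hyp.inverts {a b : Ω} (hab : a ≠ b) {u d : G} (ha : u • a = b) (hb : u • b = a)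
    (hda : d • a = a) (hdb : d • b = b) : u * d * u⁻¹ = d⁻¹ := by
  have h1 := h.swap_sq hab (g := u * d) (by rw [mul_smul, hda, ha]) (by rw [mul_smul, hdb, hb])
  have hu : u⁻¹ = u := inv_eq_of_mul_eq_one_right (h.swap_sq hab ha hb)
  refine eq_inv_of_mul_eq_one_left ?_
  rw [hu, mul_assoc _ u d]
  exact h1

theorem Hyp.pair_comm {a b : Ω} (hab : a ≠ b) {x y : G} (hxa : x • a = a) (hxb : x • b = b)
    (hya : y • a = a) (hyb : y • b = b) : x * y = y * x := by
  obtain ⟨u, hua, hub⟩ := h.exists_swap hab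
  have e1 := h.inverts hab hua hub hxa hxb
  have e2 := h.inverts hab hua hub hya hyb
  have e3 := h.inverts hab hua hub (d := x * y) (by rw [mul_smul, hya, hxa]) (by rw [mul_smul, hyb, hxb])
  rw [show u * (x * y) * u⁻¹ = u * x * u⁻¹ * (u * y * u⁻¹) by group, e1, e2, mul_inv_rev] at e3
  have := congrArg (·⁻¹) e3
  simpa using this.symm

/-- Every involution is conjugate to `t`. -/
theorem Hyp.invol_conj {s : G} (hs : orderOf s = 2) : IsConj t s := by
  obtain ⟨x, hx⟩ : ∃ x : Ω, s • x ≠ x := by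
    by_contra hc
    push Not at hc
    rw [FaithfulSMul.eq_of_smul_eq_smul (fun x : Ω => (hc x).trans (one_smul G x).symm), orderOf_one] at hs
    omega
  exact h.swap_conj (Ne.symm hx) rfl
    (by rw [smul_smul, CfsgLib.Invol.mul_self_eq_one hs, one_smul])

/-- An element commuting with some involution fixes exactly `i` points. -/
theorem Hyp.fix_of_commute {s g : G} (hs : orderOf s = 2) (hc : Commute g s) (hg : g ≠ 1) :
    fixCard Ω g = i := by
  obtain ⟨c, rfl⟩ := isConj_iff.1 (h.invol_conj hs)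
  rw [← fixCard_conj c⁻¹ g, inv_inv]
  refine h.cent _ ?_ (fun e => hg ?_)
  · have e1 : c⁻¹ * (c * t * c⁻¹) * c = t := by group
    have e2 := congrArg (fun z => c⁻¹ * z * c) hc.eq
    have e3 : c⁻¹ * g * c * (c⁻¹ * (c * t * c⁻¹) * c) = c⁻¹ * (c * t * c⁻¹) * c * (c⁻¹ * g * c) := by
      calc c⁻¹ * g * c * (c⁻¹ * (c * t * c⁻¹) * c) = c⁻¹ * (g * (c * t * c⁻¹)) * c := by group
        _ = c⁻¹ * (c * t * c⁻¹ * g) * c := e2
        _ = _ := by group
    rwa [e1] at e3
  · rw [show g = c * (c⁻¹ * g * c) * c⁻¹ by group, e, mul_one, mul_inv_cancel]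

/-- The number of conjugates of `t`, times the order of its centraliser. -/
theorem Hyp.card_conj_eq {a b : Ω} (hab : a ≠ b) :
    Nat.card {s : G // IsConj t s} * (Nat.card Ω - i) =
      Nat.card Ω * (Nat.card Ω - 1) * Nat.card ↥(stabilizer G a ⊓ stabilizer G b) := by
  rw [← h.card_cent, h.card_conj, h.card_group hab]

end CfsgLib.SameFix
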