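import Cfsg.Agent.SameFix.Pair
import Cfsg.Agent.OddEnd.FourteenFinal

/-!
# At most one fixed point: the stabiliser of three points is trivial

If `d ≠ 1` fixes at least three points its centraliser has odd order and is transitive on the fixed
points of `d`; an abelian normal piece of it forces all elements interchanging two suitable points to
have the same fixed point, which is impossible.
-/

set_option autoImplicit false
set_option linter.unusedSectionVars false
set_option linter.style.haveILetI false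

namespace CfsgLib.SameFix

open MulAction
open scoped commutatorElement

variable {G Ω : Type*} [Group G] [MulAction G Ω] [FaithfulSMul G Ω] [Finite G] [Finite Ω]
variable {t : G} {i : ℕ} (h : Hyp G Ω t i)
include h

/-- All elements interchanging two points cannot fix a common point, unless two-point stabilisers
are trivial. -/
theorem Hyp.not_common_fix (hi : i = 1) {a b c : Ω} (hab : a ≠ b) {d : G} (hd : d ≠ 1)
    (hda : d • a = a) (hdb : d • b = b)
    (hall : ∀ g : G, g • a = b → g • b = a → g • c = c) : False := by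
  classical
  subst hi
  obtain ⟨u, hua, hub⟩ := h.exists_swap hab
  have huc := hall u hua hub
  have hu := h.swap_conj hab hua hub
  have hu2 : orderOf u = 2 := CfsgLib.Invol.orderOf_eq_two (h.conj_sq hu) (fun e => by
    rw [e, one_smul] at hua; exact hab hua)
  have hfix : ∀ g : G, orderOf g = 2 → ∀ x y : Ω, g • x = x → g • y = y → x = y := by
    intro g hg x y hx hy
    have h1 : fixCard Ω g = 1 := h.fix_of_commute hg (Commute.refl g)
      (fun e => by rw [e, orderOf_one] at hg; omega)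
    haveI := (Nat.card_eq_one_iff_unique.1 h1).1
    exact congrArg Subtype.val (Subsingleton.elim (⟨x, hx⟩ : {x : Ω // g • x = x}) ⟨y, hy⟩)
  have hac : a ≠ c := fun e => hab ((e ▸ huc : u • a = a).symm.trans hua)
  have hn2 : 2 ≤ Nat.card Ω := by
    haveI : Nontrivial Ω := ⟨a, b, hab⟩
    exact Finite.one_lt_card
  -- every point fixes exactly `e` involutions
  let I : Ω → Type _ := fun x => {s : G // IsConj t s ∧ s • x = x}
  have hI : ∀ x y : Ω, Nat.card (I x) = Nat.card (I y) := by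
    intro x y
    haveI := h.two
    haveI : IsPretransitive G Ω := isPretransitive_of_is_two_pretransitive
    obtain ⟨g, hg⟩ := MulAction.exists_smul_eq G x y
    refine Nat.card_congr ((MulAut.conj g).toEquiv.subtypeEquiv fun s => ?_)
    simp only [MulEquiv.toEquiv_eq_coe, MulEquiv.coe_toEquiv, MulAut.conj_apply]
    refine and_congr ⟨fun e => e.trans (isConj_iff.2 ⟨g, rfl⟩), fun e => e.trans (isConj_iff.2 ⟨g, rfl⟩).symm⟩ ?_
    rw [← hg, mul_smul, mul_smul, inv_smul_smul, smul_left_cancel_iff]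
  haveI := Fintype.ofFinite Ω
  have hIsum : Nat.card {s : G // IsConj t s} = Nat.card Ω * Nat.card (I c) := by
    let e : (Σ x : Ω, I x) ≃ {s : G // IsConj t s} := Equiv.ofBijective (fun p => ⟨p.2.1, p.2.2.1⟩) ⟨by
      rintro ⟨x, s⟩ ⟨y, s'⟩ e
      have e' : s.1 = s'.1 := congrArg Subtype.val e
      have hs2 : orderOf s.1 = 2 := by
        obtain ⟨c, hc⟩ := isConj_iff.1 s.2.1
        rw [← hc, CfsgLib.Invol.orderOf_conj_eq, h.ord]
      obtain rfl := hfix s.1 hs2 x y s.2.2 (e' ▸ s'.2.2)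
      exact congrArg _ (Subtype.ext e'), fun s => by
      obtain ⟨c, hc⟩ := isConj_iff.1 s.2
      obtain ⟨⟨x, hx⟩⟩ : Nonempty {x : Ω // s.1 • x = x} := by
        rw [← hc]
        exact (Nat.card_pos_iff.1 (by
          show 0 < fixCard Ω (c * t * c⁻¹)
          rw [fixCard_conj, h.fix_t]; exact one_pos)).1
      exact ⟨⟨x, s.1, s.2, hx⟩, rfl⟩⟩
    rw [← Nat.card_congr e, Nat.card_sigma, Finset.sum_congr rfl (fun x _ => hI x c), Finset.sum_const,
      Finset.card_univ, ← Nat.card_eq_fintype_card (α := Ω), smul_eq_mul]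
  have hIc : ∀ x y : Ω, x ≠ y → Nat.card (I c) = Nat.card ↥(stabilizer G x ⊓ stabilizer G y) := by
    intro x y hxy
    have h1 := h.card_conj_eq hxy
    rw [hIsum] at h1
    refine Nat.eq_of_mul_eq_mul_left (Nat.mul_pos (by omega : 0 < Nat.card Ω) (Nat.sub_pos_of_lt hn2)) ?_
    rw [← h1]; ring
  -- the centraliser of `u` is transitive away from `c`
  set R := Subgroup.centralizer ({u} : Set G) with hRdef
  have hR : ∀ r ∈ R, r • c = c := fun r hr => hfix u hu2 _ _ (by
    rw [smul_smul, ← Subgroup.mem_centralizer_singleton_iff.1 hr, mul_smul, huc]) huc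
  have hRcard : Nat.card R = Nat.card Ω - 1 := by
    obtain ⟨g, hg⟩ := isConj_iff.1 hu
    rw [← h.card_cent]
    refine (Nat.card_congr ((MulAut.conj g).toEquiv.subtypeEquiv fun x => ?_)).symm
    simp only [hRdef, Subgroup.mem_centralizer_singleton_iff, MulEquiv.toEquiv_eq_coe, MulEquiv.coe_toEquiv,
      MulAut.conj_apply, ← hg]
    rw [show g * x * g⁻¹ * (g * t * g⁻¹) = g * (x * t) * g⁻¹ by group,
      show g * t * g⁻¹ * (g * x * g⁻¹) = g * (t * x) * g⁻¹ by group, mul_left_inj, mul_right_inj]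
  have hreach : ∀ y : Ω, y ≠ c → ∃ r ∈ R, r • a = y := by
    have hinj : Function.Injective (fun r : R => (⟨(r : G) • a, fun e => hac (smul_left_cancel (r : G)
        (e.trans (hR _ r.2).symm))⟩ : {y : Ω // y ≠ c})) := by
      intro r r' e
      have e' : ((r : G)⁻¹ * r') • a = a := by
        rw [mul_smul, inv_smul_eq_iff]; exact (congrArg Subtype.val e).symm
      by_contra hne
      have hne' : (r : G)⁻¹ * r' ≠ 1 := fun e'' => hne (Subtype.ext (inv_mul_eq_one.1 e''))
      have hq := mul_mem (inv_mem r.2) r'.2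
      have h1 : fixCard Ω ((r : G)⁻¹ * r') = 1 :=
        h.fix_of_commute hu2 (Subgroup.mem_centralizer_singleton_iff.1 hq) hne'
      haveI := (Nat.card_eq_one_iff_unique.1 h1).1
      exact hac (congrArg Subtype.val (Subsingleton.elim
        (⟨a, e'⟩ : {x : Ω // ((r : G)⁻¹ * r') • x = x}) ⟨c, hR _ hq⟩))
    intro y hy
    obtain ⟨r, hr⟩ := (hinj.bijective_of_nat_card_le (by
      rw [hRcard, Nat.card_eq_fintype_card, Nat.card_eq_fintype_card, Fintype.card_subtype_compl,
        Fintype.card_subtype_eq])).2 ⟨y, hy⟩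
    exact ⟨r, r.2, congrArg Subtype.val hr⟩
  -- a second element interchanging the same points
  set v := u * d
  have hva : v • a = b := by rw [mul_smul, hda, hua]
  have hvb : v • b = a := by rw [mul_smul, hdb, hub]
  refine hd (mul_left_cancel (a := u) ?_)
  rw [mul_one]
  refine FaithfulSMul.eq_of_smul_eq_smul (α := Ω) fun y => ?_
  by_cases hy : y = c
  · rw [hy, huc]; exact hall v hva hvb
  obtain ⟨r, hr, rfl⟩ := hreach y hy
  have hru : u * r = r * u := (Subgroup.mem_centralizer_singleton_iff.1 hr).symm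
  have hub' : u • r • a = r • b := by rw [smul_smul, hru, mul_smul, hua]
  rw [hub']
  have hne : r • a ≠ r • b := fun e => hab (smul_left_cancel r e)
  -- all of them fix `c`
  let W := {g : G // g • r • a = r • b ∧ g • r • b = r • a}
  have hWc : ∀ g : W, g.1 • c = c := fun g => by
    have h1 := hall (r⁻¹ * g.1 * r) (by rw [mul_smul, mul_smul, g.2.1, inv_smul_smul])
      (by rw [mul_smul, mul_smul, g.2.2, inv_smul_smul])
    rwa [mul_smul, mul_smul, hR r hr, inv_smul_eq_iff, hR r hr] at h1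
  let φ : W → I c := fun g => ⟨g.1, h.swap_conj hne g.2.1 g.2.2, hWc g⟩
  have hφ : Function.Injective φ := fun g g' e => Subtype.ext (congrArg Subtype.val e :)
  have hWcard : Nat.card W = Nat.card ↥(stabilizer G (r • a) ⊓ stabilizer G (r • b)) := by
    obtain ⟨g, hg1, hg2⟩ := h.exists_swap hne
    refine Nat.card_congr ((Equiv.mulLeft g⁻¹).subtypeEquiv fun z => ?_)
    simp only [Subgroup.mem_inf, mem_stabilizer_iff, Equiv.coe_mulLeft, mul_smul, inv_smul_eq_iff,
      hg1, hg2]
  obtain ⟨g, hg⟩ := (hφ.bijective_of_nat_card_le (by rw [hWcard, hIc _ _ hne])).2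
    ⟨v, h.swap_conj hab hva hvb, hall v hva hvb⟩
  have : g.1 = v := congrArg Subtype.val hg
  show v • r • a = r • b
  rw [← this]
  exact g.2.1

/-- The stabiliser of three points is trivial when involutions fix at most one point. -/
theorem Hyp.three_small (hi : i ≤ 1) {a b c : Ω} (hab : a ≠ b) (hbc : b ≠ c) (hac : a ≠ c) {d : G}
    (hda : d • a = a) (hdb : d • b = b) (hdc : d • c = c) : d = 1 := by
  classical
  by_contra hd
  haveI := Fintype.ofFinite Ω
  set C := Subgroup.centralizer ({d} : Set G) with hC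
  let Δ := {x : Ω // d • x = x}
  have hΔ3 : 3 ≤ fixCard Ω d := by
    rw [fixCard, Nat.card_eq_fintype_card, Fintype.card_subtype]
    calc 3 = ({a, b, c} : Finset Ω).card := by simp [hab, hbc, hac]
      _ ≤ _ := Finset.card_le_card (by simp [Finset.insert_subset_iff, hda, hdb, hdc])
  haveI : Fact (Nat.Prime 2) := ⟨Nat.prime_two⟩
  have hCodd : Odd (Nat.card C) := by
    by_contra he
    obtain ⟨s, hs⟩ := exists_prime_orderOf_dvd_card' (G := C) 2
      (even_iff_two_dvd.1 (Nat.not_odd_iff_even.1 he))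
    rw [← Subgroup.orderOf_coe] at hs
    have := h.fix_of_commute hs (Subgroup.mem_centralizer_singleton_iff.1 s.2).symm hd
    omega
  have hCΔ : ∀ g ∈ C, ∀ x : Ω, d • x = x → d • g • x = g • x := fun g hg x hx => by
    rw [smul_smul, ← Subgroup.mem_centralizer_singleton_iff.1 hg, mul_smul, hx]
  -- the centraliser is transitive on the fixed points
  have htr : ∀ x y : Ω, d • x = x → d • y = y → ∃ g ∈ C, g • x = y := by
    intro x y hx hy
    by_cases hxy : x = y
    · exact ⟨1, one_mem _, by rw [one_smul, hxy]⟩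
    obtain ⟨z, hz, hzx, hzy⟩ : ∃ z, d • z = z ∧ z ≠ x ∧ z ≠ y := by
      by_cases ha : a ≠ x ∧ a ≠ y
      · exact ⟨a, hda, ha⟩
      by_cases hb : b ≠ x ∧ b ≠ y
      · exact ⟨b, hdb, hb⟩
      refine ⟨c, hdc, ?_⟩
      simp only [ne_eq, not_and_or, not_not] at ha hb
      grind
    obtain ⟨p, hp1, hp2⟩ := h.exists_swap (Ne.symm hzx)
    obtain ⟨q, hq1, hq2⟩ := h.exists_swap hzy
    refine ⟨q * p, ?_, by rw [mul_smul, hp1, hq1]⟩
    rw [hC, Subgroup.mem_centralizer_singleton_iff]
    have e1 := h.inverts (Ne.symm hzx) hp1 hp2 hx hz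
    have e2 := h.inverts hzy hq1 hq2 hz hy
    have e3 : q * p * d * (q * p)⁻¹ = d := by
      rw [show q * p * d * (q * p)⁻¹ = q * (p * d * p⁻¹) * q⁻¹ by group, e1,
        show q * d⁻¹ * q⁻¹ = (q * d * q⁻¹)⁻¹ by group, e2, inv_inv]
    exact (mul_inv_eq_iff_eq_mul.1 e3)
  have horbit : MulAction.orbit C a = {x : Ω | d • x = x} := by
    ext x
    constructor
    · rintro ⟨g, rfl⟩; exact hCΔ _ g.2 a hda
    · intro hx
      obtain ⟨g, hg, hgx⟩ := htr a x hda hx
      exact ⟨⟨g, hg⟩, hgx⟩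
  have hΔodd : Odd (fixCard Ω d) := by
    have h1 := Nat.card_congr (MulAction.orbitEquivQuotientStabilizer C a)
    rw [horbit] at h1
    exact hCodd.of_dvd_nat (dvd_trans (dvd_of_eq h1) (Subgroup.card_quotient_dvd_card _))
  -- an element interchanging two fixed points of `d` fixes one
  have hfixed : ∀ (w : G) (S : Set Ω), w * w = 1 → Odd (Nat.card S) → (∀ z ∈ S, w • z ∈ S) →
      ∃ z ∈ S, w • z = z := by
    intro w S hw hS hwS
    by_contra hc
    push Not at hc
    haveI := Fintype.ofFinite S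
    let σ : Equiv.Perm S := Function.Involutive.toPerm (fun z => ⟨w • z.1, hwS _ z.2⟩)
      (fun z => Subtype.ext (by show w • w • z.1 = z.1; rw [smul_smul, hw, one_smul]))
    have hσ : σ ^ 2 ^ 1 = 1 := by
      rw [pow_one, sq]
      exact Equiv.ext fun z => Subtype.ext (by
        show w • w • z.1 = z.1
        rw [smul_smul, hw, one_smul])
    obtain ⟨z, hz⟩ := Equiv.Perm.exists_fixed_point_of_prime (p := 2) (σ := σ) (by
      rw [← Nat.card_eq_fintype_card]
      exact Nat.two_dvd_ne_zero.2 (Nat.odd_iff.1 hS)) hσ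
    exact hc z.1 z.2 (congrArg Subtype.val hz)
  have hi1 : i = 1 := by
    by_contra hne
    obtain ⟨w, hwa, hwb⟩ := h.exists_swap hab
    obtain ⟨z, -, hz⟩ := hfixed w {x | d • x = x} (h.swap_sq hab hwa hwb) hΔodd (fun z hz => by
      show d • w • z = w • z
      have e1 := h.inverts hab hwa hwb hda hdb
      have hd' : d = w * d⁻¹ * w⁻¹ := by
        rw [show w * d⁻¹ * w⁻¹ = (w * d * w⁻¹)⁻¹ by group, e1, inv_inv]
      have hz' : d⁻¹ • z = z := inv_smul_eq_iff.2 (Eq.symm hz)
      conv_lhs => rw [hd']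
      rw [mul_smul, mul_smul, inv_smul_smul, hz'])
    have h1 := h.swap_fix hab hwa hwb
    have h2 : 0 < fixCard Ω w := Nat.card_pos_iff.2 ⟨⟨⟨z, hz⟩⟩, inferInstance⟩
    omega
  -- an abelian piece of the centraliser
  let L : ℕ → Subgroup G := fun k => (derivedSeries C k).map C.subtype
  have hLC : ∀ k, L k ≤ C := fun k => Subgroup.map_subtype_le _
  have hL0 : L 0 = C := by
    show (derivedSeries C 0).map C.subtype = C
    rw [derivedSeries_zero, ← MonoidHom.range_eq_map, Subgroup.range_subtype]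
  have hLsucc : ∀ k, L (k + 1) = ⁅L k, L k⁆ := fun k => by
    show (derivedSeries C (k + 1)).map C.subtype = _
    rw [derivedSeries_succ, Subgroup.map_commutator]
  have hLbot : ∃ k, L k = ⊥ := by
    obtain ⟨k, hk⟩ := (Group.isSolvable_def C).1 (CfsgLib.OddEnd.odd_solvable C hCodd)
    exact ⟨k, by show (derivedSeries C k).map C.subtype = ⊥; rw [hk, Subgroup.map_bot]⟩
  have hex : ∃ k, ∀ g ∈ L k, ∀ x : Ω, d • x = x → g • x = x := by
    obtain ⟨k, hk⟩ := hLbot
    exact ⟨k, fun g hg x _ => by rw [hk, Subgroup.mem_bot] at hg; rw [hg, one_smul]⟩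
  have hk0 : Nat.find hex ≠ 0 := fun e => by
    have hs := Nat.find_spec hex
    rw [e] at hs
    obtain ⟨g, hg, hgb⟩ := htr a b hda hdb
    exact hab ((hs g (hL0.symm ▸ hg) a hda).symm.trans hgb)
  obtain ⟨k, hk⟩ := Nat.exists_eq_succ_of_ne_zero hk0
  have h0 : ∀ g ∈ L (k + 1), ∀ x : Ω, d • x = x → g • x = x := by
    intro g hg
    exact Nat.find_spec hex g (hk.symm ▸ hg)
  set N : Subgroup G := L k with hNdef
  have hNnt : ¬ ∀ g ∈ N, ∀ x : Ω, d • x = x → g • x = x :=
    Nat.find_min hex (m := k) (by omega)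
  have hNcomm : ∀ x ∈ N, ∀ y ∈ N, ∀ z : Ω, d • z = z → x • y • z = y • x • z := by
    intro x hx y hy z hz
    have h1 := h0 ⁅x, y⁆ ((hLsucc k).symm ▸ Subgroup.commutator_mem_commutator hx hy) (y • x • z)
      (hCΔ y (hLC k hy) _ (hCΔ x (hLC k hx) z hz))
    simp only [smul_smul] at h1
    rw [smul_smul, smul_smul, ← h1, commutatorElement_def]
    congr 1
    group
  have hnorm : ∀ g : G, (∀ x ∈ C, g * x * g⁻¹ ∈ C) → ∀ m, ∀ x ∈ L m, g * x * g⁻¹ ∈ L m := by
    intro g hg m
    have hmap : (L m).map (MulAut.conj g).toMonoidHom ≤ L m := by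
      induction m with
      | zero => rw [hL0]; rintro _ ⟨x, hx, rfl⟩; exact hg x hx
      | succ m ih =>
        rw [hLsucc, Subgroup.map_commutator]
        exact Subgroup.commutator_mono ih ih
    exact fun x hx => hmap ⟨x, hx, rfl⟩
  -- its orbit of a fixed point
  set o := a with ho
  obtain ⟨n₀, hn₀, hn₀o⟩ : ∃ n ∈ N, n • o ≠ o := by
    by_contra hc
    push Not at hc
    refine hNnt fun g hg x hx => ?_
    obtain ⟨q, hq, rfl⟩ := htr o x hda hx
    have := hc (q⁻¹ * g * q) (by
      have := hnorm q⁻¹ (fun y hy => mul_mem (mul_mem (inv_mem hq) hy) (inv_mem (inv_mem hq))) k g hg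
      rwa [inv_inv] at this)
    rwa [mul_smul, mul_smul, inv_smul_eq_iff] at this
  set p := n₀ • o with hp
  have hdp : d • p = p := hCΔ n₀ (hLC k hn₀) o hda
  have hop : o ≠ p := Ne.symm hn₀o
  have hwN : ∀ w : G, w • o = p → w • p = o → ∀ n ∈ N, w * n * w⁻¹ ∈ N := by
    intro w hw1 hw2
    refine hnorm w (fun x hx => ?_) k
    have e := h.inverts hop hw1 hw2 hda hdp
    rw [hC, Subgroup.mem_centralizer_singleton_iff] at hx ⊢
    have hd' : d = w * d⁻¹ * w⁻¹ := by
      rw [show w * d⁻¹ * w⁻¹ = (w * d * w⁻¹)⁻¹ by group, e, inv_inv]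
    have hx' : x * d⁻¹ = d⁻¹ * x := (Commute.inv_right hx).eq
    conv_lhs => rw [hd']
    conv_rhs => rw [hd']
    calc w * x * w⁻¹ * (w * d⁻¹ * w⁻¹) = w * (x * d⁻¹) * w⁻¹ := by group
      _ = w * (d⁻¹ * x) * w⁻¹ := by rw [hx']
      _ = _ := by group
  -- the fixed point of such an element
  have hmid : ∀ w : G, w • o = p → w • p = o → ∃ m ∈ N, w • m • o = m • o ∧ p = m • m • o := by
    intro w hw1 hw2
    let B : Set Ω := {z | ∃ n ∈ N, n • o = z}
    have hB : B = MulAction.orbit N o := by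
      ext z
      constructor
      · rintro ⟨n, hn, e⟩
        exact ⟨⟨n, hn⟩, e⟩
      · rintro ⟨n, e⟩
        exact ⟨n.1, n.2, e⟩
    have hBodd : Odd (Nat.card B) := by
      rw [hB, Nat.card_congr (MulAction.orbitEquivQuotientStabilizer N o)]
      exact hCodd.of_dvd_nat ((Subgroup.card_quotient_dvd_card _).trans (Subgroup.card_dvd_of_le (hLC k)))
    obtain ⟨_, ⟨m, hm, rfl⟩, hfix⟩ := hfixed w B (h.swap_sq hop hw1 hw2) hBodd (by
      rintro _ ⟨n, hn, rfl⟩
      refine ⟨w * n * w⁻¹ * n₀, mul_mem (hwN w hw1 hw2 n hn) hn₀, ?_⟩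
      rw [mul_smul, ← hp, ← hw1, mul_smul, mul_smul, inv_smul_smul])
    refine ⟨m, hm, hfix, ?_⟩
    set γ := m • o with hγ
    have hdγ : d • γ = γ := hCΔ m (hLC k hm) o hda
    have hn' := hwN w hw1 hw2 m⁻¹ (inv_mem hm)
    set n' := w * m⁻¹ * w⁻¹ with hn'def
    have hww : w * w = 1 := h.swap_sq hop hw1 hw2
    have hwi : w⁻¹ = w := inv_eq_of_mul_eq_one_right hww
    have hback : w * n' * w⁻¹ = m⁻¹ := by
      rw [hn'def, show w * (w * m⁻¹ * w⁻¹) * w⁻¹ = w * w * m⁻¹ * (w * w)⁻¹ by group, hww]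
      simp
    have hsq : m⁻¹ • n' • γ = γ := by
      have hmem : d • (m⁻¹ • n' • γ) = m⁻¹ • n' • γ :=
        hCΔ _ (hLC k (inv_mem hm)) _ (hCΔ n' (hLC k hn') _ hdγ)
      have e1 : w • (m⁻¹ • n' • γ) = m⁻¹ • n' • γ := by
        calc w • (m⁻¹ • n' • γ) = (w * m⁻¹ * w⁻¹) • (w * n' * w⁻¹) • w • γ := by
              simp only [smul_smul]
              congr 1
              group
          _ = n' • m⁻¹ • γ := by rw [hback, hfix]
          _ = _ := hNcomm n' hn' m⁻¹ (inv_mem hm) γ hdγ
      have h1 : fixCard Ω w = 1 := hi1 ▸ h.swap_fix hop hw1 hw2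
      haveI := (Nat.card_eq_one_iff_unique.1 h1).1
      exact congrArg Subtype.val (Subsingleton.elim
        (⟨_, e1⟩ : {x : Ω // w • x = x}) ⟨γ, hfix⟩)
    have h2 : p = n' • γ := by
      rw [hn'def, mul_smul, mul_smul, inv_smul_eq_iff.2 hfix.symm, hγ, inv_smul_smul, hw1]
    rw [h2]
    rw [inv_smul_eq_iff] at hsq
    exact hsq
  -- so all of them fix the same point
  obtain ⟨w, hw1, hw2⟩ := h.exists_swap hop
  obtain ⟨m, hm, hmfix, hmp⟩ := hmid w hw1 hw2
  refine h.not_common_fix hi1 hop hd hda hdp (c := m • o) fun g hg1 hg2 => ?_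
  obtain ⟨m', hm', hm'fix, hm'p⟩ := hmid g hg1 hg2
  suffices e : m' • o = m • o by rw [← e]; exact hm'fix
  have hcm : m • m' • o = m' • m • o := hNcomm m hm m' hm' o hda
  set q := m⁻¹ * m' with hq
  have hqN : q ∈ N := mul_mem (inv_mem hm) hm'
  have hqq : q ^ 2 • o = o := by
    have e1 : m' • m⁻¹ • (m' • o) = m⁻¹ • m' • m' • o :=
      hNcomm m' hm' m⁻¹ (inv_mem hm) _ (hCΔ m' (hLC k hm') o hda)
    rw [sq, hq, mul_smul, mul_smul, mul_smul, e1, ← hm'p, hmp, inv_smul_smul, inv_smul_smul]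
  obtain ⟨j, hj⟩ := hCodd.of_dvd_nat ((Subgroup.orderOf_mk q (hLC k hqN)) ▸ orderOf_dvd_natCard _ :
    orderOf q ∣ Nat.card C)
  have hqo : q • o = o := by
    have e2 : (q ^ 2) ^ (j + 1) = q := by
      rw [← pow_mul, show 2 * (j + 1) = orderOf q + 1 by omega, pow_succ, pow_orderOf_eq_one, one_mul]
    conv_lhs => rw [← e2]
    exact (MulAction.stabilizer G o).pow_mem (MulAction.mem_stabilizer_iff.2 hqq) _
  rw [hq, mul_smul, inv_smul_eq_iff] at hqo
  exact hqo

end CfsgLib.SameFix
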